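import Mathlib

/-! Finite residue field extensions are realised by finite free algebras. -/

set_option autoImplicit false
set_option backward.isDefEq.respectTransparency false
set_option backward.isDefEq.respectTransparency.types false

universe u

open Polynomial

namespace Groth.Agent.ResExt

variable {A : Type u} [CommRing A] {κ : Type u} [Field κ] [Algebra A κ]
  {ℓ : Type u} [Field ℓ] [Algebra A ℓ] [Algebra κ ℓ] [IsScalarTower A κ ℓ]

theorem exists_free (F : Finset ℓ) (hF : ∀ x ∈ F, IsIntegral A x) :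
    ∃ (B : Type u) (_ : CommRing B) (_ : Algebra A B) (φ : B →ₐ[A] ℓ),
      Module.Free A B ∧ Module.Finite A B ∧ ∀ x ∈ F, x ∈ φ.range := by
  classical
  induction F using Finset.induction with
  | empty => exact ⟨A, inferInstance, inferInstance, Algebra.ofId A ℓ, inferInstance, inferInstance, by simp⟩
  | @insert x F hx ih =>
    obtain ⟨B, _, _, φ, hfree, hfin, hmem⟩ := ih fun y hy => hF y (Finset.mem_insert_of_mem hy)
    obtain ⟨P, hP, hPx⟩ := hF x (Finset.mem_insert_self x F)
    letI : Algebra B ℓ := φ.toRingHom.toAlgebra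
    haveI : IsScalarTower A B ℓ := .of_algebraMap_eq fun a => (φ.commutes a).symm
    have hmon : (P.map (algebraMap A B)).Monic := hP.map _
    let ψ : AdjoinRoot (P.map (algebraMap A B)) →ₐ[B] ℓ :=
      AdjoinRoot.liftAlgHom _ (Algebra.ofId B ℓ) x (by
        show Polynomial.eval₂ (algebraMap B ℓ) x _ = 0
        rw [Polynomial.eval₂_map, ← IsScalarTower.algebraMap_eq]
        exact hPx)
    haveI := hmon.free_adjoinRoot
    haveI := hmon.finite_adjoinRoot
    refine ⟨AdjoinRoot (P.map (algebraMap A B)), inferInstance, inferInstance, ψ.restrictScalars A,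
      Module.Free.trans (S := B), Module.Finite.trans B _, fun y hy => ?_⟩
    obtain rfl | hy := Finset.mem_insert.1 hy
    · exact ⟨AdjoinRoot.root _, by simp [ψ]⟩
    · obtain ⟨b, rfl⟩ := hmem y hy
      exact ⟨algebraMap B _ b, ψ.commutes b⟩

/-- A field extension finite over a fraction field of the image of `A` is the fraction field of the image of a
finite free `A`-algebra. -/
theorem exists_fraction [Module.Finite κ ℓ]
    (hfrac : ∀ c : κ, ∃ a b : A, algebraMap A κ b ≠ 0 ∧ algebraMap A κ b * c = algebraMap A κ a) :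
    ∃ (B : Type u) (_ : CommRing B) (_ : Algebra A B) (φ : B →ₐ[A] ℓ),
      Module.Free A B ∧ Module.Finite A B ∧ ∀ y : ℓ, ∃ r s : B, IsUnit (φ s) ∧ φ s * y = φ r := by
  classical
  choose num den hden hnd using hfrac
  have hclear : ∀ x : ℓ, ∃ b : A, algebraMap A κ b ≠ 0 ∧ IsIntegral A (algebraMap A ℓ b * x) := by
    intro x
    have hx : IsIntegral κ x := IsIntegral.of_finite κ x
    let m := minpoly κ x
    let b := ∏ i ∈ m.support, den (m.coeff i)
    have hb : algebraMap A κ b ≠ 0 := by
      simp only [b, map_prod]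
      exact Finset.prod_ne_zero_iff.2 fun i _ => hden _
    have hc : ∀ i, algebraMap A κ b * m.coeff i ∈ (algebraMap A κ).range := by
      intro i
      by_cases hi : i ∈ m.support
      · refine ⟨(∏ j ∈ m.support.erase i, den (m.coeff j)) * num (m.coeff i), ?_⟩
        rw [map_mul, ← hnd, ← mul_assoc, ← map_mul, Finset.prod_erase_mul _ (fun j => den (m.coeff j)) hi]
      · refine ⟨0, ?_⟩
        rw [Polynomial.notMem_support_iff.1 hi, mul_zero, map_zero]
    have hmon : (m.scaleRoots (algebraMap A κ b)).Monic :=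
      (Polynomial.monic_scaleRoots_iff _).2 (minpoly.monic hx)
    have hlift : m.scaleRoots (algebraMap A κ b) ∈ Polynomial.lifts (algebraMap A κ) := by
      rw [Polynomial.lifts_iff_coeff_lifts]
      intro i
      rw [Polynomial.coeff_scaleRoots]
      rcases lt_trichotomy i m.natDegree with h | h | h
      · obtain ⟨a, ha⟩ := hc i
        refine ⟨a * b ^ (m.natDegree - i - 1), ?_⟩
        rw [map_mul, map_pow, ha, mul_comm (algebraMap A κ b) (m.coeff i), mul_assoc, ← pow_succ']
        congr 2; omega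
      · refine ⟨1, ?_⟩
        rw [map_one, h, Nat.sub_self, pow_zero, mul_one]
        exact (minpoly.monic hx).symm
      · refine ⟨0, ?_⟩
        rw [Polynomial.coeff_eq_zero_of_natDegree_lt h, zero_mul, map_zero]
    obtain ⟨P, hP1, -, hP2⟩ := Polynomial.lifts_and_natDegree_eq_and_monic hlift hmon
    refine ⟨b, hb, P, hP2, ?_⟩
    rw [IsScalarTower.algebraMap_eq A κ ℓ, ← Polynomial.eval₂_map, hP1, RingHom.comp_apply]
    exact Polynomial.scaleRoots_aeval_eq_zero (minpoly.aeval κ x)
  choose sc hsc hint using hclear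
  obtain ⟨n, e, he⟩ := Module.Finite.exists_fin (R := κ) (M := ℓ)
  obtain ⟨B, iB, iA, φ, hfree, hfin, hmem⟩ := exists_free (A := A) (ℓ := ℓ)
    (Finset.univ.image fun i => algebraMap A ℓ (sc (e i)) * e i) (by
      intro x hx
      obtain ⟨i, -, rfl⟩ := Finset.mem_image.1 hx
      exact hint _)
  refine ⟨B, iB, iA, φ, hfree, hfin, fun y => ?_⟩
  suffices h : ∃ a : A, algebraMap A κ a ≠ 0 ∧ algebraMap A ℓ a * y ∈ φ.range by
    obtain ⟨a, ha, r, hr⟩ := h
    refine ⟨r, algebraMap A B a, isUnit_iff_ne_zero.2 ?_, ?_⟩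
    · rw [φ.commutes, IsScalarTower.algebraMap_apply A κ ℓ]
      exact fun h => ha ((algebraMap κ ℓ).injective (h.trans (map_zero _).symm))
    · rw [φ.commutes]; exact hr.symm
  have hy : y ∈ Submodule.span κ (Set.range e) := he ▸ Submodule.mem_top
  induction hy using Submodule.span_induction with
  | mem x hx =>
    obtain ⟨i, rfl⟩ := hx
    exact ⟨sc (e i), hsc _, hmem _ (Finset.mem_image.2 ⟨i, Finset.mem_univ _, rfl⟩)⟩
  | zero => exact ⟨1, by simp, by simp⟩
  | add x z _ _ hx hz =>
    obtain ⟨a, ha, ha'⟩ := hx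
    obtain ⟨c, hc, hc'⟩ := hz
    refine ⟨a * c, by rw [map_mul]; exact mul_ne_zero ha hc, ?_⟩
    rw [map_mul, mul_add, show algebraMap A ℓ a * algebraMap A ℓ c * x = algebraMap A ℓ c * (algebraMap A ℓ a * x) by ring,
      mul_assoc]
    exact add_mem (mul_mem (φ.range.algebraMap_mem c) ha') (mul_mem (φ.range.algebraMap_mem a) hc')
  | smul c x _ hx =>
    obtain ⟨a, ha, ha'⟩ := hx
    refine ⟨den c * a, by rw [map_mul]; exact mul_ne_zero (hden c) ha, ?_⟩
    rw [Algebra.smul_def, show algebraMap A ℓ (den c * a) * (algebraMap κ ℓ c * x) =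
      algebraMap A ℓ (num c) * (algebraMap A ℓ a * x) by
        rw [map_mul, IsScalarTower.algebraMap_apply A κ ℓ (num c), ← hnd, map_mul,
          ← IsScalarTower.algebraMap_apply]
        ring]
    exact mul_mem (φ.range.algebraMap_mem _) ha'

end Groth.Agent.ResExt
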